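import Cfsg.Agent.H482.SylowNumbers
import Mathlib

/-!
# Even numbers of Sylow `p`-subgroups of centralizers (helper710, S4844)

* `even_of_noFixed` : a 2-subgroup of `C` which normalises no Sylow `p`-subgroup;
* `even_of_surjective` : from a quotient;
* `even_cent` : `|S|_p = p ^ 2`, `x` of order `p`, `u` a 2-element of `C(x)` with `p ^ 2 ∤ |C(u ^ (p - 1))|`.
* `even_cent_of_isConj` : transport along conjugacy and powers.
-/

set_option autoImplicit false

namespace Cfsg.Agent.H710.PSq

open Subgroup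

variable {p : ℕ} [hp : Fact p.Prime]

theorem even_of_noFixed {C : Type*} [Group C] [Finite C] (T : Subgroup C) (hT : IsPGroup 2 T)
    (h : ∀ Q : Sylow p C, ∃ t ∈ T, t • Q ≠ Q) : Even (Nat.card (Sylow p C)) := by
  by_contra hodd
  rw [Nat.not_even_iff_odd] at hodd
  have : Fact (Nat.Prime 2) := ⟨Nat.prime_two⟩
  have h1 := hT.card_modEq_card_fixedPoints (Sylow p C)
  have h2 : Nat.card (MulAction.fixedPoints T (Sylow p C)) ≠ 0 := by
    intro h0
    rw [h0] at h1
    have h3 : Nat.card (Sylow p C) % 2 = 0 := h1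
    rw [Nat.odd_iff] at hodd
    omega
  have h3 : Nonempty (MulAction.fixedPoints T (Sylow p C)) := (Nat.card_ne_zero.1 h2).1
  obtain ⟨Q, hQ⟩ := h3
  obtain ⟨t, ht, hne⟩ := h Q
  exact hne (hQ ⟨t, ht⟩)

theorem even_of_surjective {C D : Type*} [Group C] [Finite C] [Group D] (f : C →* D)
    (hf : Function.Surjective f) (h : Even (Nat.card (Sylow p D))) : Even (Nat.card (Sylow p C)) :=
  h.trans_dvd (H482.SylowNumbers.card_sylow_dvd_of_surjective p f hf)

theorem even_congr {C D : Type*} [Group C] [Finite C] [Group D] (e : C ≃* D) :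
    Even (Nat.card (Sylow p C)) ↔ Even (Nat.card (Sylow p D)) := by
  rw [H482.SylowNumbers.card_sylow_congr p e]

section

variable {Q : Type*} [Group Q] [Finite Q]

/-- An automorphism of a group `Q` of order `p ^ 2` fixing an element `x` of order `p`: its `(p - 1)`-th power
moves elements only inside their cosets of `⟨x⟩`. -/
theorem pow_mem_zpowers (hQ : Nat.card Q = p ^ 2) {x : Q} (hx : orderOf x = p) (α : MulAut Q) (hα : α x = x)
    (y : Q) : (α ^ (p - 1)) y * y⁻¹ ∈ zpowers x := by
  have hcomm : ∀ a b : Q, a * b = b * a := (IsPGroup.isMulCommutative_of_card_eq_prime_sq hQ).is_comm.comm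
  have hn : (zpowers x).Normal := ⟨fun n hn g => by rw [hcomm g n, mul_assoc, mul_inv_cancel, mul_one]; exact hn⟩
  have hmap : (zpowers x).map (α : Q →* Q) = zpowers x := by
    rw [MonoidHom.map_zpowers]
    show zpowers (α x) = zpowers x
    rw [hα]
  set β : (Q ⧸ zpowers x) ≃* (Q ⧸ zpowers x) := QuotientGroup.congr _ _ α hmap with hβ
  have hcard : Nat.card (Q ⧸ zpowers x) = p := by
    have h1 := (zpowers x).card_eq_card_quotient_mul_card_subgroup
    rw [hQ, Nat.card_zpowers, hx, pow_two] at h1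
    exact (Nat.eq_of_mul_eq_mul_right hp.out.pos h1).symm
  have hcyc : IsCyclic (Q ⧸ zpowers x) := isCyclic_of_prime_card hcard
  have h1 : Nat.card (MulAut (Q ⧸ zpowers x)) = p - 1 := by
    rw [IsCyclic.card_mulAut, hcard, Nat.totient_prime hp.out]
  have h2 : (β : MulAut (Q ⧸ zpowers x)) ^ (p - 1) = 1 := by
    rw [← h1]; exact pow_card_eq_one'
  have h3 : ∀ (n : ℕ) (y : Q), ((β : MulAut (Q ⧸ zpowers x)) ^ n) (QuotientGroup.mk y) = QuotientGroup.mk ((α ^ n) y) := by
    intro n
    induction n with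
    | zero => intro y; rfl
    | succ n ih =>
      intro y
      rw [pow_succ, pow_succ, MulAut.mul_apply, MulAut.mul_apply]
      have h4 : β (QuotientGroup.mk y) = QuotientGroup.mk (α y) := rfl
      rw [h4, ih]
  have h5 := h3 (p - 1) y
  rw [h2] at h5
  have h6 : (QuotientGroup.mk y : Q ⧸ zpowers x) = QuotientGroup.mk ((α ^ (p - 1)) y) := h5
  rw [QuotientGroup.eq] at h6
  rwa [hcomm]

/-- ... and if its order is a power of two (`p` odd) the power fixes everything. -/
theorem pow_fixes (hp2 : p ≠ 2) (hQ : Nat.card Q = p ^ 2) {x : Q} (hx : orderOf x = p) (α : MulAut Q) (hα : α x = x)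
    {k : ℕ} (hk : α ^ 2 ^ k = 1) (y : Q) : (α ^ (p - 1)) y = y := by
  have hcomm : ∀ a b : Q, a * b = b * a := (IsPGroup.isMulCommutative_of_card_eq_prime_sq hQ).is_comm.comm
  set β := α ^ (p - 1) with hβ
  obtain ⟨z, hz, hzy⟩ : ∃ z ∈ zpowers x, β y = z * y := ⟨_, pow_mem_zpowers hQ hx α hα y, by rw [inv_mul_cancel_right]⟩
  have hαz : ∀ n : ℕ, (α ^ n) z = z := by
    intro n
    obtain ⟨i, rfl⟩ := mem_zpowers_iff.1 hz
    rw [map_zpow]
    congr 1
    induction n with
    | zero => rfl
    | succ n ih => rw [pow_succ, MulAut.mul_apply, hα, ih]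
  have h1 : ∀ n : ℕ, (β ^ n) y = z ^ n * y := by
    intro n
    induction n with
    | zero => simp
    | succ n ih =>
      rw [pow_succ', MulAut.mul_apply, ih, map_mul, map_pow, hzy, hβ, hαz, ← mul_assoc, ← pow_succ]
  have hzp : z ^ p = 1 := by
    obtain ⟨i, rfl⟩ := mem_zpowers_iff.1 hz
    rw [← zpow_natCast, ← zpow_mul, mul_comm, zpow_mul, zpow_natCast, ← hx, pow_orderOf_eq_one, one_zpow]
  have h2 : (β ^ 2 ^ k) y = y := by
    have h3 : β ^ 2 ^ k = 1 := by
      rw [hβ, ← pow_mul, mul_comm, pow_mul, hk, one_pow]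
    rw [h3]; rfl
  rw [h1] at h2
  have h4 : z ^ 2 ^ k = 1 := mul_eq_right.1 h2
  have h5 : z = 1 := by
    rw [← orderOf_eq_one_iff]
    have h6 : orderOf z ∣ Nat.gcd p (2 ^ k) := Nat.dvd_gcd (orderOf_dvd_of_pow_eq_one hzp) (orderOf_dvd_of_pow_eq_one h4)
    have h7 : Nat.gcd p (2 ^ k) = 1 := Nat.Coprime.pow_right k ((Nat.coprime_primes hp.out Nat.prime_two).2 hp2)
    rw [h7] at h6
    exact Nat.dvd_one.1 h6
  rw [hzy, h5, one_mul]

end

variable {S : Type*} [Group S] [Finite S]

/-- `x` of order `p` lies in an abelian group of order `p ^ 2`. -/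
theorem sq_dvd_card_cent (h2 : (Nat.card S).factorization p = 2) {x : S} (hx : orderOf x = p) :
    p ^ 2 ∣ Nat.card (centralizer ({x} : Set S)) := by
  have h1 : IsPGroup p (zpowers x) := IsPGroup.of_card (n := 1) (by rw [Nat.card_zpowers, hx, pow_one])
  obtain ⟨P, hP⟩ := h1.exists_le_sylow
  have h3 : Nat.card P = p ^ 2 := by rw [P.card_eq_multiplicity, h2]
  have hcomm : ∀ a b : P, a * b = b * a := (IsPGroup.isMulCommutative_of_card_eq_prime_sq h3).is_comm.comm
  have h4 : (P : Subgroup S) ≤ centralizer ({x} : Set S) := by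
    intro y hy
    rw [mem_centralizer_singleton_iff]
    exact congrArg Subtype.val (hcomm ⟨y, hy⟩ ⟨x, hP (mem_zpowers x)⟩)
  rw [← h3]
  exact card_dvd_of_le h4

/-- **The criterion.** -/
theorem even_cent (hp2 : p ≠ 2) (h2 : (Nat.card S).factorization p = 2) {x u : S} (hx : orderOf x = p)
    {k : ℕ} (hu : u ^ 2 ^ k = 1) (hc : u * x = x * u)
    (hd : ¬ p ^ 2 ∣ Nat.card (centralizer ({u ^ (p - 1)} : Set S))) :
    Even (Nat.card (Sylow p (centralizer ({x} : Set S)))) := by
  set C := centralizer ({x} : Set S) with hC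
  have huC : u ∈ C := mem_centralizer_singleton_iff.2 hc
  have hxC : x ∈ C := mem_centralizer_singleton_iff.2 rfl
  set u' : C := ⟨u, huC⟩ with hu'
  set x' : C := ⟨x, hxC⟩ with hx'
  have hu2 : u' ^ 2 ^ k = 1 := Subtype.ext (by simpa using hu)
  have hT : IsPGroup 2 (zpowers u') := by
    rintro ⟨a, ha⟩
    obtain ⟨i, rfl⟩ := mem_zpowers_iff.1 ha
    refine ⟨k, Subtype.ext ?_⟩
    show (u' ^ i) ^ 2 ^ k = 1
    rw [← zpow_natCast, ← zpow_mul, mul_comm, zpow_mul, zpow_natCast, hu2, one_zpow]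
  refine even_of_noFixed (zpowers u') hT fun Q => ⟨u', mem_zpowers u', fun hQ => hd ?_⟩
  -- `Q` contains `x` and has order `p ^ 2`
  have hxcen : x' ∈ center C := by
    rw [mem_center_iff]
    intro g
    exact Subtype.ext (mem_centralizer_singleton_iff.1 g.2)
  have hxQ : x' ∈ (Q : Subgroup C) := by
    have h1 : IsPGroup p (zpowers x') := IsPGroup.of_card (n := 1) (by
      rw [Nat.card_zpowers, pow_one, hx', orderOf_mk, hx])
    obtain ⟨Q', hQ'⟩ := h1.exists_le_sylow
    obtain ⟨g, hg⟩ := MulAction.exists_smul_eq C Q' Q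
    rw [← hg, Sylow.coe_subgroup_smul]
    refine ⟨x', hQ' (mem_zpowers x'), ?_⟩
    show g * x' * g⁻¹ = x'
    rw [mem_center_iff.1 hxcen g, mul_inv_cancel_right]
  have hcardQ : Nat.card Q = p ^ 2 := by
    rw [Q.card_eq_multiplicity]
    congr 1
    refine le_antisymm ?_ ?_
    · rw [← h2]
      exact (Nat.factorization_le_iff_dvd Nat.card_pos.ne' Nat.card_pos.ne').2 (card_subgroup_dvd_card C) p
    · exact (hp.out.pow_dvd_iff_le_factorization Nat.card_pos.ne').1 (sq_dvd_card_cent h2 hx)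
  have hnorm : u' ∈ normalizer ((Q : Subgroup C) : Set C) := Sylow.smul_eq_iff_mem_normalizer.1 hQ
  -- conjugation by powers of `u'`
  have hpow : ∀ n : ℕ, ∀ y ∈ (Q : Subgroup C), u' ^ n * y * (u' ^ n)⁻¹ ∈ (Q : Subgroup C) := fun n y hy =>
    (mem_normalizer_iff.1 (pow_mem hnorm n) y).1 hy
  let nu : normalizer ((Q : Subgroup C) : Set C) := ⟨u', hnorm⟩
  let φ : normalizer ((Q : Subgroup C) : Set C) →* MulAut (Q : Subgroup C) := MulDistribMulAction.toMulAut _ _
  have hφ : ∀ (n : ℕ) (y : (Q : Subgroup C)), (((φ nu) ^ n) y : C) = u' ^ n * y * (u' ^ n)⁻¹ := by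
    intro n y
    rw [← map_pow]
    rfl
  have hk : (φ nu) ^ 2 ^ k = 1 := by
    rw [← map_pow]
    have : nu ^ 2 ^ k = 1 := Subtype.ext hu2
    rw [this, map_one]
  have hfix := pow_fixes (Q := (Q : Subgroup C)) hp2 hcardQ (x := ⟨x', hxQ⟩)
    (by rw [orderOf_mk, hx', orderOf_mk, hx]) (φ nu) (by
      apply Subtype.ext
      have h1 := hφ 1 ⟨x', hxQ⟩
      rw [pow_one, pow_one] at h1
      rw [h1]
      show u' * x' * u'⁻¹ = x'
      rw [mem_center_iff.1 hxcen u', mul_inv_cancel_right]) hk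
  have hle : (Q : Subgroup C).map C.subtype ≤ centralizer ({u ^ (p - 1)} : Set S) := by
    rintro _ ⟨y, hy, rfl⟩
    rw [mem_centralizer_singleton_iff]
    have h1 := hφ (p - 1) ⟨y, hy⟩
    rw [hfix ⟨y, hy⟩] at h1
    have h3 : y * u' ^ (p - 1) = u' ^ (p - 1) * y := by
      have h4 : y = u' ^ (p - 1) * y * (u' ^ (p - 1))⁻¹ := h1
      calc y * u' ^ (p - 1) = (u' ^ (p - 1) * y * (u' ^ (p - 1))⁻¹) * u' ^ (p - 1) := by rw [← h4]
        _ = u' ^ (p - 1) * y := inv_mul_cancel_right _ _
    exact congrArg Subtype.val h3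
  have h5 := card_dvd_of_le hle
  rwa [card_map_of_injective (subtype_injective C), hcardQ] at h5

/-- transport along an automorphism -/
theorem even_cent_of_equiv {S' : Type*} [Group S'] [Finite S'] (e : S ≃* S') {x : S}
    (h : Even (Nat.card (Sylow p (centralizer ({x} : Set S))))) :
    Even (Nat.card (Sylow p (centralizer ({e x} : Set S')))) := by
  have h1 : (centralizer ({x} : Set S)).map e.toMonoidHom = centralizer ({e x} : Set S') := by
    ext y
    simp only [mem_map, mem_centralizer_singleton_iff]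
    constructor
    · rintro ⟨z, hz, rfl⟩
      show e z * e x = e x * e z
      rw [← map_mul, hz, map_mul]
    · intro hy
      refine ⟨e.symm y, ?_, e.apply_symm_apply y⟩
      apply e.injective
      rw [map_mul, map_mul, e.apply_symm_apply]
      exact hy
  rw [← h1]
  exact (even_congr ((centralizer ({x} : Set S)).equivMapOfInjective e.toMonoidHom e.injective)).1 h

/-- Conjugates have the same number. -/
theorem even_cent_of_isConj {x y : S} (h : IsConj x y)
    (hx : Even (Nat.card (Sylow p (centralizer ({x} : Set S))))) :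
    Even (Nat.card (Sylow p (centralizer ({y} : Set S)))) := by
  obtain ⟨c, rfl⟩ := isConj_iff.1 h
  exact even_cent_of_equiv (MulAut.conj c) hx

/-- Generators of the same cyclic group have the same number. -/
theorem even_cent_of_zpowers {x y : S} (h : zpowers x = zpowers y)
    (hx : Even (Nat.card (Sylow p (centralizer ({x} : Set S))))) :
    Even (Nat.card (Sylow p (centralizer ({y} : Set S)))) := by
  have h1 : centralizer ({x} : Set S) = centralizer ({y} : Set S) := by
    rw [← centralizer_closure ({x} : Set S), ← zpowers_eq_closure, h, zpowers_eq_closure, centralizer_closure]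
  rwa [← h1]

end Cfsg.Agent.H710.PSq
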