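import Cfsg.Agent.H934.OutB
import Cfsg.Agent.H696.PSq.DefsE
import Cfsg.Agent.S2060
import Cfsg.Agent.S2061
import Cfsg.Agent.S2062
import Cfsg.Agent.S2063
import Cfsg.Agent.S2064
import Cfsg.Agent.S2065
import Cfsg.Agent.S2066
import Cfsg.Agent.S2067
import Cfsg.Agent.S2068
import Cfsg.Agent.S2069
import Cfsg.Agent.S2070
import Cfsg.Agent.S2071
import Cfsg.Agent.S2072
import Cfsg.Agent.S2073
import Cfsg.Agent.S2074
import Cfsg.Agent.S2075
import Cfsg.Agent.S2076
import Cfsg.Agent.S2077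
import Cfsg.Agent.S2078
import Cfsg.Agent.S2079
import Cfsg.Agent.S2080
import Cfsg.Agent.S2081
import Cfsg.Agent.S2082
import Cfsg.Agent.S2083
import Cfsg.Agent.S2084
import Cfsg.Agent.S2085

/-!
# `|Out S| ≤ 2` for the sporadic groups; `EvenC` for them (helper710, S4844)
-/

set_option autoImplicit false

namespace Cfsg.Agent.H710.PSq

open Subgroup

universe u

variable {S : Type u} [Group S]

theorem card_out_spor (h : Cfsg.IsSporadicGroup S) : Nat.card (Cfsg.Out S) ∣ 2 := by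
  rcases h with h | h | h | h | h | h | h | h | h | h | h | h | h | h | h | h | h | h | h | h | h | h | h | h | h | h
  · obtain ⟨e⟩ := h; rw [H934.OutB.card_out_congr e, Cfsg.Agent.S2060.result]; norm_num
  · obtain ⟨e⟩ := h; rw [H934.OutB.card_out_congr e, Cfsg.Agent.S2061.result]
  · obtain ⟨e⟩ := h; rw [H934.OutB.card_out_congr e, Cfsg.Agent.S2062.result]
  · obtain ⟨e⟩ := h; rw [H934.OutB.card_out_congr e, Cfsg.Agent.S2063.result]; norm_num
  · obtain ⟨e⟩ := h; rw [H934.OutB.card_out_congr e, Cfsg.Agent.S2064.result]; norm_num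
  · obtain ⟨e⟩ := h; rw [H934.OutB.card_out_congr e, Cfsg.Agent.S2065.result]; norm_num
  · obtain ⟨e⟩ := h; rw [H934.OutB.card_out_congr e, Cfsg.Agent.S2066.result]
  · obtain ⟨F, _, _, ω, hF, hω, ⟨e⟩⟩ := h
    rw [H934.OutB.card_out_congr e, Cfsg.Agent.S2067.result hF ω hω]
  · obtain ⟨e⟩ := h; rw [H934.OutB.card_out_congr e, Cfsg.Agent.S2068.result]; norm_num
  · obtain ⟨e⟩ := h; rw [H934.OutB.card_out_congr e, Cfsg.Agent.S2069.result]; norm_num
  · obtain ⟨e⟩ := h; rw [H934.OutB.card_out_congr e, Cfsg.Agent.S2070.result]; norm_num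
  · obtain ⟨e⟩ := h; rw [H934.OutB.card_out_congr e, Cfsg.Agent.S2071.result]; norm_num
  · obtain ⟨e⟩ := h; rw [H934.OutB.card_out_congr e, Cfsg.Agent.S2073.result]
  · obtain ⟨e⟩ := h; rw [H934.OutB.card_out_congr e, Cfsg.Agent.S2072.result]
  · obtain ⟨e⟩ := h; rw [H934.OutB.card_out_congr e, Cfsg.Agent.S2074.result]
  · obtain ⟨e⟩ := h; rw [H934.OutB.card_out_congr e, Cfsg.Agent.S2075.result]
  · obtain ⟨e⟩ := h; rw [H934.OutB.card_out_congr e, Cfsg.Agent.S2077.result]; norm_num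
  · obtain ⟨e⟩ := h; rw [H934.OutB.card_out_congr e, Cfsg.Agent.S2078.result]
  · obtain ⟨e⟩ := h; rw [H934.OutB.card_out_congr e, Cfsg.Agent.S2076.result]; norm_num
  · obtain ⟨e⟩ := h; rw [H934.OutB.card_out_congr e, Cfsg.Agent.S2079.result]
  · obtain ⟨e⟩ := h; rw [H934.OutB.card_out_congr e, Cfsg.Agent.S2080.result]; norm_num
  · obtain ⟨e⟩ := h; rw [H934.OutB.card_out_congr e, Cfsg.Agent.S2081.result]
  · obtain ⟨e⟩ := h; rw [H934.OutB.card_out_congr e, Cfsg.Agent.S2082.result]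
  · obtain ⟨e⟩ := h; rw [H934.OutB.card_out_congr e, Cfsg.Agent.S2083.result]; norm_num
  · obtain ⟨e⟩ := h; rw [H934.OutB.card_out_congr e, Cfsg.Agent.S2084.result]; norm_num
  · obtain ⟨e⟩ := h; rw [H934.OutB.card_out_congr e, Cfsg.Agent.S2085.result]; norm_num

theorem not_dvd_out {p : ℕ} [hp : Fact p.Prime] (hp2 : p ≠ 2) (h : Cfsg.IsSporadicGroup S) :
    ¬ p ∣ Nat.card (Cfsg.Out S) := fun h1 =>
  hp2 ((Nat.prime_dvd_prime_iff_eq hp.out Nat.prime_two).1 (h1.trans (card_out_spor h)))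

/-- `EvenC p S` for a sporadic group. -/
theorem evenC_spor [Finite S] {p : ℕ} [hp : Fact p.Prime] (hp2 : p ≠ 2) (h : Cfsg.IsSporadicGroup S)
    (h2 : (Nat.card S).factorization p = 2)
    (he : ∀ x : S, orderOf x = p → Even (Nat.card (Sylow p (centralizer ({x} : Set S))))) :
    H696.PSq.EvenC p S where
  odd := hp2
  sq := (hp.out.pow_dvd_iff_le_factorization Nat.card_pos.ne').2 h2.ge
  cube := fun h3 => by
    have := (hp.out.pow_dvd_iff_le_factorization Nat.card_pos.ne').1 h3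
    omega
  out := not_dvd_out hp2 h
  even := he

end Cfsg.Agent.H710.PSq
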