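import Cfsg.Agent.H794.ImcTools
import Cfsg.Agent.H652.Four.Crit
import Cfsg.Agent.H710.PSq.Crit
import Cfsg.Agent.H852.IMLocal

/-!
# Degrees divisible by `p ^ k`: the local criteria (helper710, S4844)

The tools `IMC` of helper794 / `IM` of helper33, helper483, helper652, with the exponent kept.

* `im_pow_of_centralChar` : `ω_χ(g)` a unit modulo `M` and `p ^ k ∣ |g^G|` ⇒ `IM (p ^ k) G`;
* `im_pow_of_nn` : the same for `NN` (`H652/Four/Crit.lean`);
* `im_pow_of_star` (STAR), `im_pow_of_star2` (STAR2), `im_pow_of_RD` (RD), `im_pow_of_quotients`;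
* `im_pow_of_local` (T3) : `D` a `p`-subgroup with `p ^ k ∣ |G : D|`, `C(D)` has a character of defect zero modulo
  `Z(D)`, all `p`-elements of `N(D)` in `D C(D)`;
* `im_pow_of_cent` : `x` of order `p`, `C(x)` has a character of degree divisible by `|C(x)|_p / p`.
-/

set_option autoImplicit false

open Cfsg

namespace Cfsg.Agent.H710.PSq

open Cfsg.Agent.H33 Cfsg.Agent.Blocks.Local Cfsg.Agent.Blocks.Basic Cfsg.Agent.Blocks

universe u

variable {G : Type u} [Group G] [Finite G] {p : ℕ} [hp : Fact p.Prime] {M : Ideal AlgInt}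

theorem im_pow_of_centralChar (hM : IsPModular p M) {x : G} (χ : IrrCharacter G)
    (h : ¬ MemLocalIdeal M (centralChar (χ : G → ℂ) x)) {k : ℕ}
    (hk : p ^ k ∣ (Subgroup.centralizer ({x} : Set G)).index) : IM (p ^ k) G :=
  ⟨χ, H652.Four.dvd_charDegree hM h hk⟩

theorem im_pow_of_exists (hM : IsPModular p M) {x : G} {k : ℕ}
    (hk : p ^ k ∣ (Subgroup.centralizer ({x} : Set G)).index)
    (h : ∃ χ : IrrCharacter G, ¬ MemLocalIdeal M (centralChar (χ : G → ℂ) x)) : IM (p ^ k) G := by
  obtain ⟨χ, hχ⟩ := h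
  exact im_pow_of_centralChar hM χ hχ hk

theorem im_pow_of_nn (hM : IsPModular p M) {x : G} {k : ℕ}
    (hk : p ^ k ∣ (Subgroup.centralizer ({x} : Set G)).index) (h : H652.Four.NN M (H652.Four.cl x)) :
    IM (p ^ k) G := by
  obtain ⟨χ, hχ, -⟩ := h.exists_dvd hM hk
  exact ⟨χ, hχ⟩

/-- **STAR** : no quotient of two conjugates of `s` is a nontrivial element of the Sylow subgroup `R`. -/
theorem im_pow_of_star (s : G) (R : Sylow p G)
    (hs : ∀ g h : G, IsConj s g → IsConj s h → g * h⁻¹ ∈ (R : Subgroup G) → g * h⁻¹ = 1) {k : ℕ}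
    (hk : p ^ k ∣ (Subgroup.centralizer ({s} : Set G)).index) : IM (p ^ k) G := by
  obtain ⟨M, hM⟩ := ExistsModular.exists_isPModular hp.out
  exact im_pow_of_exists hM hk (H33.exists_centralChar hM s R hs)

theorem im_pow_of_quotients {s : G} {k : ℕ} (hd : p ^ k ∣ (Subgroup.centralizer ({s} : Set G)).index)
    (hs : ∀ g h : G, IsConj s g → IsConj s h → (∃ k : ℕ, orderOf (g * h⁻¹) = p ^ k) → g = h) :
    IM (p ^ k) G := by
  obtain ⟨P⟩ : Nonempty (Sylow p G) := inferInstance
  refine im_pow_of_star s P (fun g h hg hh hP => ?_) hd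
  have h1 := hs g h hg hh ?_
  · rw [h1, mul_inv_cancel]
  · obtain ⟨j, hj⟩ := P.isPGroup' ⟨g * h⁻¹, hP⟩
    have h2 : (g * h⁻¹) ^ p ^ j = 1 := by simpa using congrArg Subtype.val hj
    obtain ⟨i, -, hi⟩ := (Nat.dvd_prime_pow hp.out).1 (orderOf_dvd_of_pow_eq_one h2)
    exact ⟨i, hi⟩

/-- **STAR2**: `R` a Sylow `p`-subgroup of `C(y)`, `p ∤ N(y)`. -/
theorem im_pow_of_star2 (y : G) (R : Subgroup G)
    (hR : Nat.card R = p ^ (Nat.card (Subgroup.centralizer ({y} : Set G))).factorization p)
    (hc : ∀ z ∈ R, Commute y z)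
    (hs : ∀ g h : G, IsConj y g → IsConj y h → y⁻¹ * (g * h⁻¹) ∈ R → g * h⁻¹ = y)
    (hn : ¬ p ∣ H483.Star.nn y) {k : ℕ} (hd : p ^ k ∣ (Subgroup.centralizer ({y} : Set G)).index) :
    IM (p ^ k) G := by
  obtain ⟨M, hM⟩ := ExistsModular.exists_isPModular hp.out
  obtain ⟨χ, h1, -⟩ := H483.Star.star2_block p hM y R hR hc hs hn
  exact im_pow_of_centralChar hM χ h1 hd

/-- **Theorem RD** -/
theorem im_pow_of_RD (D : Subgroup G) (hD : IsPGroup p D) (u : G)
    (hu : ¬ p ∣ orderOf u) (hDu : D ≤ Subgroup.centralizer ({u} : Set G))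
    (hcard : Nat.card D = p ^ (Nat.card (Subgroup.centralizer ({u} : Set G))).factorization p) {k : ℕ}
    (hd : p ^ k ∣ (Subgroup.centralizer ({u} : Set G)).index)
    (hs : ∀ a b : G, a ∈ Subgroup.centralizer (D : Set G) → b ∈ Subgroup.centralizer (D : Set G) →
      IsConj u a → IsConj u b → (∃ k : ℕ, orderOf (a * b⁻¹) = p ^ k) → a = b) : IM (p ^ k) G := by
  obtain ⟨M, hM⟩ := ExistsModular.exists_isPModular hp.out
  exact im_pow_of_exists hM hd (H33.exists_RD hM D hD u hu hDu hcard hs)

/-- **T3** with exponent. -/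
theorem im_pow_of_local (D : Subgroup G) (hD : IsPGroup p D) {k : ℕ} (hidx : p ^ k ∣ D.index)
    (θ : IrrCharacter (Subgroup.centralizer (D : Set G)))
    (hdeg : (Nat.card (Subgroup.centralizer (D : Set G))).factorization p ≤
      (charDegree (θ : Subgroup.centralizer (D : Set G) → ℂ)).factorization p +
      (Nat.card ↥(D ⊓ Subgroup.centralizer (D : Set G))).factorization p)
    (hst : ∀ g : G, g ∈ Subgroup.normalizer (D : Set G) → (∃ k : ℕ, orderOf g = p ^ k) →
      g ∈ D ⊔ Subgroup.centralizer (D : Set G)) : IM (p ^ k) G := by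
  classical
  obtain ⟨M, hM⟩ := ExistsModular.exists_isPModular hp.out
  have : M.IsPrime := isPrime_of_isPModular hM
  set e : Set (IrrCharacter (Subgroup.centralizer (D : Set G))) :=
    blockOf M (θ : Subgroup.centralizer (D : Set G) → ℂ) with he
  have heB : IsPBlock M e := ⟨θ, rfl⟩
  have hθe : θ ∈ e := fun g => by rw [sub_self]; exact memLocalIdeal_zero
  have hrev : (charDegree (θ : Subgroup.centralizer (D : Set G) → ℂ)).factorization p +
      (Nat.card ↥(D ⊓ Subgroup.centralizer (D : Set G))).factorization p ≤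
      (Nat.card (Subgroup.centralizer (D : Set G))).factorization p := by
    obtain ⟨d, ρ, hρ, hχ⟩ := θ.2
    have hZ : D.subgroupOf (Subgroup.centralizer (D : Set G)) ≤
        Subgroup.center (Subgroup.centralizer (D : Set G)) :=
      Cfsg.Agent.H686.PairCrit.subgroupOf_le_center D
    have hn : (D.subgroupOf (Subgroup.centralizer (D : Set G))).Normal := by
      constructor
      intro x hx g
      have h1 := Subgroup.mem_center_iff.1 (hZ hx) g
      rw [h1, mul_inv_cancel_right]
      exact hx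
    have hdvd := Cfsg.Agent.S0169.result ρ (D.subgroupOf (Subgroup.centralizer (D : Set G)))
      (fun a ha b _ => ((Subgroup.mem_center_iff.1 (hZ ha)) b).symm)
    have h2 : charDegree (θ : Subgroup.centralizer (D : Set G) → ℂ) = d := by
      apply H670.PSing.charDegree_eq_of
      rw [← hχ, Representation.char_one]
      simp
    rw [Module.finrank_fin_fun, ← h2] at hdvd
    have h3 := (Nat.factorization_le_iff_dvd
      (Cfsg.Agent.Blocks.Basic.charDegree_pos θ.2).ne' Subgroup.index_ne_zero_of_finite).2 hdvd p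
    have h4 : Nat.card (D.subgroupOf (Subgroup.centralizer (D : Set G))) =
        Nat.card ↥(D ⊓ Subgroup.centralizer (D : Set G)) := by
      have h5 : Nat.card ((D.subgroupOf (Subgroup.centralizer (D : Set G))).map
          (Subgroup.centralizer (D : Set G)).subtype) =
          Nat.card (D.subgroupOf (Subgroup.centralizer (D : Set G))) :=
        Subgroup.card_map_of_injective (Subgroup.subtype_injective _)
      rw [Subgroup.subgroupOf_map_subtype] at h5
      exact h5.symm
    have h6 := (D.subgroupOf (Subgroup.centralizer (D : Set G))).card_mul_index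
    rw [← h6, h4, Nat.factorization_mul Nat.card_pos.ne' Subgroup.index_ne_zero_of_finite,
      Finsupp.add_apply]
    omega
  obtain ⟨B, hB⟩ := Cfsg.Agent.H686.PairCrit.crit_mpr hM (Q := D) (e := e) ⟨hD, heB⟩ hθe
    (le_antisymm hrev hdeg) (fun g hg _ hk => hst g hg hk)
  have hdef := Cfsg.Agent.H644.isDefectGroup_of_isMaximalBrauerPair hM hB
  have hBb : IsPBlock M B := hB.1.2.1
  obtain ⟨χ, hχ⟩ := Basic.isPBlock_nonempty hBb
  refine ⟨χ, ?_⟩
  have h1 := Cfsg.Agent.H592.Defect.le_degree_add p hM hBb hdef hχ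
  have h2 := D.card_mul_index
  rw [← h2, Nat.factorization_mul Nat.card_pos.ne' Subgroup.index_ne_zero_of_finite,
    Finsupp.add_apply] at h1
  have h3 : k ≤ D.index.factorization p :=
    (hp.out.pow_dvd_iff_le_factorization Subgroup.index_ne_zero_of_finite).1 hidx
  exact (hp.out.pow_dvd_iff_le_factorization (charDegree_pos χ.2).ne').2 (by omega)

/-- **T3 for an element of order `p`.** -/
theorem im_pow_of_cent (x : G) (hx : orderOf x = p) {a : ℕ}
    (h : IM (p ^ a) (Subgroup.centralizer ({x} : Set G)))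
    (hc : (Nat.card (Subgroup.centralizer ({x} : Set G))).factorization p ≤ a + 1) {k : ℕ}
    (hG : p ^ (k + 1) ∣ Nat.card G) : IM (p ^ k) G := by
  have hcent : Subgroup.centralizer ((Subgroup.zpowers x : Subgroup G) : Set G) = Subgroup.centralizer {x} := by
    rw [Subgroup.zpowers_eq_closure, Subgroup.centralizer_closure]
  have hD : Nat.card (Subgroup.zpowers x) = p := by rw [Nat.card_zpowers, hx]
  rw [← hcent] at h hc
  obtain ⟨θ, hθ⟩ := h
  have hle : Subgroup.zpowers x ≤ Subgroup.centralizer ((Subgroup.zpowers x : Subgroup G) : Set G) := by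
    rw [hcent, Subgroup.zpowers_le, Subgroup.mem_centralizer_singleton_iff]
  refine im_pow_of_local (Subgroup.zpowers x) (IsPGroup.of_card (n := 1) (by rw [hD, pow_one])) ?_ θ ?_ ?_
  · have h1 := (Subgroup.zpowers x).card_mul_index
    rw [hD] at h1
    rw [← h1, pow_succ, mul_comm] at hG
    exact (Nat.mul_dvd_mul_iff_left hp.out.pos).1 hG
  · rw [inf_eq_left.2 hle, hD, hp.out.factorization_self]
    have h0 := (Cfsg.Agent.Blocks.Basic.charDegree_pos θ.2).ne'
    have h1 := (hp.out.pow_dvd_iff_le_factorization h0).1 hθ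
    exact hc.trans (Nat.add_le_add_right h1 1)
  · intro g hg hk
    refine Subgroup.mem_sup_right ?_
    rw [hcent, Subgroup.mem_centralizer_singleton_iff]
    exact mul_inv_eq_iff_eq_mul.1 (H852.IMLocal.mem_cent_of_normalizer hx hg hk)

end Cfsg.Agent.H710.PSq
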