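import Cfsg.Agent.H710.PSq.SporAll
import Cfsg.Agent.H300.PSq.FiTwentyTwoRow

/-!
# S4844: the sporadic groups, final form (helper710)
-/

set_option autoImplicit false

namespace Cfsg.Agent.H710.PSq

open Cfsg

universe u

/-- **The sporadic rows of S4844.** -/
theorem sq_spor {S : Type u} [Group S] [Finite S] (h : Cfsg.IsSporadicGroup S) (hs : IsSimpleGroup S) {p : ℕ}
    [hp : Fact p.Prime] (hp2 : p ≠ 2) (hd : p ^ 2 ∣ Nat.card S) : H33.IM (p ^ 2) S ∨ H696.PSq.EvenC p S :=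
  sq_spor_of (fun {K} _ _ hK => by
    obtain ⟨χ, hχ⟩ := H300.PSq.FiTwentyTwo.im_three hK
    exact ⟨χ, dvd_trans (by norm_num) hχ⟩) h hs hp2 hd

end Cfsg.Agent.H710.PSq
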