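import Mathlib

/-!
# Even line numbers are impossible (helper710, S4844)

`arith_even`: weights `w` on the points of a net with `p + 1` parallel classes (`p` odd), two points on exactly one
line; if `∏_line w = 1 + c_X ∑_line (w - 1)` for all lines, with all `c_X` even, then all weights are `1`.
-/

set_option autoImplicit false

namespace Cfsg.Agent.H710.PSq

theorem prod_sub {ι : Type*} (s : Finset ι) (t : ι → ℤ) (m : ℤ) (h : ∀ b ∈ s, m ∣ t b) :
    m ^ 2 ∣ ∏ b ∈ s, (1 + t b) - 1 - ∑ b ∈ s, t b := by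
  classical
  induction s using Finset.induction_on with
  | empty => simp
  | insert a s ha ih =>
    rw [Finset.prod_insert ha, Finset.sum_insert ha]
    obtain ⟨y, hy⟩ := ih fun b hb => h b (Finset.mem_insert_of_mem hb)
    obtain ⟨x, hx⟩ := h a (Finset.mem_insert_self a s)
    obtain ⟨z, hz⟩ : m ∣ ∑ b ∈ s, t b := Finset.dvd_sum fun b hb => h b (Finset.mem_insert_of_mem hb)
    have e : ∏ b ∈ s, (1 + t b) = 1 + ∑ b ∈ s, t b + m ^ 2 * y := by linear_combination hy
    refine ⟨y + x * z + t a * y, ?_⟩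
    rw [e, hz, hx]
    ring

open Classical in
theorem arith_even {ι κ : Type*} [Fintype ι] [Fintype κ] {p : ℕ} (hp : Odd p)
    (hκ : Fintype.card κ = p + 1) (rel : κ → ι → ι → Prop) (he : ∀ X, Equivalence (rel X))
    (hu : ∀ a b, a ≠ b → ∃! X, rel X a b) (w : ι → ℕ) (hw1 : ∀ a, 1 ≤ w a) (c : κ → ℕ) (hc : ∀ X, Even (c X))
    (hL : ∀ X a, ∏ b with rel X a b, w b = 1 + c X * ∑ b with rel X a b, (w b - 1)) (hne : ∃ a, w a ≠ 1) :
    False := by
  obtain ⟨X₀⟩ : Nonempty κ := Fintype.card_pos_iff.1 (by omega)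
  set t : ι → ℤ := fun b => (w b : ℤ) - 1 with ht
  have hline : ∀ X a, ∏ b with rel X a b, (1 + t b) = 1 + (c X : ℤ) * ∑ b with rel X a b, t b := by
    intro X a
    have h1 : ((∏ b with rel X a b, w b : ℕ) : ℤ) = ((1 + c X * ∑ b with rel X a b, (w b - 1) : ℕ) : ℤ) := by
      rw [hL]
    push_cast at h1
    have h2 : ∀ b, ((w b - 1 : ℕ) : ℤ) = t b := fun b => by
      rw [ht]
      push_cast [Nat.cast_sub (hw1 b)]
      ring
    rw [Finset.prod_congr rfl fun b _ => show (1 + t b) = (w b : ℤ) by rw [ht]; ring, h1]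
    rw [Finset.sum_congr rfl fun b _ => h2 b]
  -- all weights are odd
  have hodd : ∀ a, (2 : ℤ) ^ 1 ∣ t a := by
    intro a
    have h1 := hL X₀ a
    have h2 : Odd (∏ b with rel X₀ a b, w b) := by
      rw [h1, add_comm]
      exact ((hc X₀).mul_right _).add_one
    have h3 : w a ∣ ∏ b with rel X₀ a b, w b :=
      Finset.dvd_prod_of_mem _ (Finset.mem_filter.2 ⟨Finset.mem_univ _, (he X₀).refl a⟩)
    obtain ⟨m, hm⟩ := h2.of_dvd_nat h3
    exact ⟨m, by rw [ht]; simp [hm]⟩
  have hstep : ∀ k : ℕ, 1 ≤ k → (∀ a, (2 : ℤ) ^ k ∣ t a) → ∀ a, (2 : ℤ) ^ (k + 1) ∣ t a := by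
    intro k hk h a
    have hdiv : ∀ X b, ((2 : ℤ) ^ k) ^ 2 ∣ ∑ b' with rel X b b', t b' := by
      intro X b
      have h1 := prod_sub (Finset.univ.filter fun b' => rel X b b') t (2 ^ k) fun b' _ => h b'
      rw [hline X b] at h1
      have h2 : ((2 : ℤ) ^ k) ^ 2 ∣ ((c X : ℤ) - 1) * ∑ b' with rel X b b', t b' := by
        have e : (1 + (c X : ℤ) * ∑ b' with rel X b b', t b') - 1 - ∑ b' with rel X b b', t b' =
            ((c X : ℤ) - 1) * ∑ b' with rel X b b', t b' := by ring
        rwa [e] at h1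
      have h3 : IsCoprime (((2 : ℤ) ^ k) ^ 2) ((c X : ℤ) - 1) := by
        refine IsCoprime.pow_left (IsCoprime.pow_left ?_)
        obtain ⟨d, hd⟩ := hc X
        refine ⟨d, -1, ?_⟩
        rw [hd]
        push_cast
        ring
      exact h3.dvd_of_dvd_mul_left h2
    have htot : ((2 : ℤ) ^ k) ^ 2 ∣ ∑ b, t b := by
      let s : Setoid ι := ⟨rel X₀, he X₀⟩
      have h1 : ∑ b, t b = ∑ q : Quotient s, ∑ b with (Quotient.mk s b = q), t b :=
        (Finset.sum_fiberwise Finset.univ (fun b => Quotient.mk s b) t).symm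
      rw [h1]
      refine Finset.dvd_sum fun q _ => ?_
      have h2 : (Finset.univ.filter fun b => Quotient.mk s b = q) =
          Finset.univ.filter fun b => rel X₀ q.out b := by
        ext b
        simp only [Finset.mem_filter, Finset.mem_univ, true_and]
        rw [← Quotient.out_eq q]
        rw [Quotient.out_eq q]
        constructor
        · rintro rfl
          exact Quotient.mk_out b
        · intro hb
          rw [← Quotient.out_eq q]
          exact (Quotient.sound hb).symm
      rw [h2]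
      exact hdiv X₀ _
    have hdouble : ∑ X, ∑ b with rel X a b, t b = (∑ b, t b) + p * t a := by
      have h1 : ∀ X, ∑ b with rel X a b, t b = ∑ b, if rel X a b then t b else 0 := fun X => by
        rw [Finset.sum_filter]
      rw [Finset.sum_congr rfl fun X _ => h1 X, Finset.sum_comm]
      have h2 : ∀ b, (∑ X, if rel X a b then t b else 0) = if b = a then (p + 1) * t a else t b := by
        intro b
        by_cases hb : b = a
        · subst hb
          rw [if_pos rfl, Finset.sum_congr rfl fun X _ => if_pos ((he X).refl b), Finset.sum_const,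
            Finset.card_univ, hκ, nsmul_eq_mul]
          push_cast
          ring
        · rw [if_neg hb]
          obtain ⟨X, hX, hXu⟩ := hu a b (Ne.symm hb)
          rw [Finset.sum_eq_single X]
          · rw [if_pos hX]
          · intro Y _ hY
            rw [if_neg fun h => hY (hXu Y h)]
          · intro h
            exact absurd (Finset.mem_univ _) h
      rw [Finset.sum_congr rfl fun b _ => h2 b, ← Finset.add_sum_erase _ _ (Finset.mem_univ a), if_pos rfl,
        ← Finset.add_sum_erase _ t (Finset.mem_univ a),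
        Finset.sum_congr rfl fun b hb => if_neg (Finset.ne_of_mem_erase hb)]
      ring
    have h4 : ((2 : ℤ) ^ k) ^ 2 ∣ p * t a := by
      have h5 : ((2 : ℤ) ^ k) ^ 2 ∣ (∑ b, t b) + p * t a := by
        rw [← hdouble]
        exact Finset.dvd_sum fun X _ => hdiv X a
      exact (dvd_add_right htot).1 h5
    have h6 : IsCoprime (((2 : ℤ) ^ k) ^ 2) (p : ℤ) := by
      refine IsCoprime.pow_left (IsCoprime.pow_left ?_)
      obtain ⟨d, hd⟩ := hp
      refine ⟨-d, 1, ?_⟩
      rw [hd]
      push_cast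
      ring
    have h7 : ((2 : ℤ) ^ k) ^ 2 ∣ t a := h6.dvd_of_dvd_mul_left h4
    refine dvd_trans ?_ h7
    rw [← pow_mul]
    exact pow_dvd_pow 2 (by omega)
  have hall : ∀ k : ℕ, ∀ a, (2 : ℤ) ^ (k + 1) ∣ t a := by
    intro k
    induction k with
    | zero => exact fun a => hodd a
    | succ k ih => exact hstep (k + 1) (by omega) ih
  obtain ⟨a, ha⟩ := hne
  have h0 : t a ≠ 0 := by
    intro h
    apply ha
    have : (w a : ℤ) = 1 := by
      have h' : (w a : ℤ) - 1 = 0 := h
      omega
    exact_mod_cast this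
  have h1 := Int.le_of_dvd (abs_pos.2 h0) ((dvd_abs _ _).2 (hall (t a).natAbs a))
  have h2 : (t a).natAbs < 2 ^ (t a).natAbs := Nat.lt_two_pow_self
  have h3 : |t a| = ((t a).natAbs : ℤ) := (Int.natCast_natAbs (t a)).symm
  rw [h3] at h1
  have h4 : (2 : ℤ) ^ ((t a).natAbs + 1) = ((2 ^ ((t a).natAbs + 1) : ℕ) : ℤ) := by push_cast; rfl
  rw [h4] at h1
  have h5 : 2 ^ ((t a).natAbs + 1) ≤ (t a).natAbs := by exact_mod_cast h1
  have h6 : 2 ^ (t a).natAbs ≤ 2 ^ ((t a).natAbs + 1) := Nat.pow_le_pow_right (by norm_num) (by omega)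
  omega

end Cfsg.Agent.H710.PSq
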