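import Cfsg.Agent.H729.FiTTRank
import Cfsg.Agent.H710.PSq.Crit
import Cfsg.Agent.H941.Sq.Mathieu

/-!
# S4844, row `Fi22`, `p = 5`, and the primes (helper710)
-/

set_option autoImplicit false

namespace Cfsg.Agent.H710.PSq

open Cfsg Cfsg.Agent.H33

universe u

/-- the primes -/
theorem fi22_cases {S : Type u} [Group S] [Finite S] (h : Spor.IsoFi22 S) {p : ℕ} [hp : Fact p.Prime] (hp2 : p ≠ 2)
    (hd : p ^ 2 ∣ Nat.card S) : p = 3 ∨ p = 5 := by
  rw [NotCT.Orders.fi22 h] at hd
  obtain ⟨hm, hd⟩ := H941.Sq.eq_of_sq hp.out hd ([5, 5, 7, 11, 13] ++ List.replicate 17 2 ++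
    List.replicate 9 3) (by decide) (by decide)
  simp only [List.mem_cons, List.not_mem_nil, or_false, List.mem_append, List.mem_replicate] at hm
  have h7 : p ≠ 7 := by rintro rfl; revert hd; norm_num
  have h11 : p ≠ 11 := by rintro rfl; revert hd; norm_num
  have h13 : p ≠ 13 := by rintro rfl; revert hd; norm_num
  omega

theorem sq_fi22_five {S : Type u} [Group S] [Finite S] (h : Spor.IsoFi22 S) : IM (5 ^ 2) S := by
  have hF : Fact (Nat.Prime 5) := ⟨by norm_num⟩
  exact im_of_hasDZ (H729.FiTTRank.hasDZ_five h) (by rw [NotCT.Orders.fi22 h]; norm_num) hF.out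

end Cfsg.Agent.H710.PSq
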