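import Cfsg.Agent.H870.IMFiTwentyThree
import Cfsg.Agent.H837.IMCFi23
import Cfsg.Agent.H710.PSq.Syl
import Cfsg.Agent.H710.PSq.Local
import Cfsg.Agent.H941.Sq.Mathieu

/-!
# S4844, row `Fi23` (helper710)

* `p = 3` : the degree 30888 of the rank 3 action on 31671 transpositions;
* `p = 5` : the centralizer of every element of order 5 has the quotient `S₇`, and `S₇` has 126 Sylow 5-subgroups.
-/

set_option autoImplicit false
set_option maxRecDepth 100000

namespace Cfsg.Agent.H710.PSq

open Cfsg Subgroup Cfsg.Agent.H33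

universe u

theorem even_perm_seven : Even (Nat.card (Sylow 5 (Equiv.Perm (Fin 7)))) := by
  have hF : Fact (Nat.Prime 5) := ⟨by norm_num⟩
  obtain ⟨P⟩ : Nonempty (Sylow 5 (Equiv.Perm (Fin 7))) := inferInstance
  have hG : Nat.card (Equiv.Perm (Fin 7)) = 5040 := by
    rw [Nat.card_perm, Nat.card_eq_fintype_card, Fintype.card_fin]; rfl
  have hP : Nat.card P = 5 := by
    rw [P.card_eq_multiplicity, hG]
    have : (5040 : ℕ).factorization 5 = 1 := by
      rw [show (5040 : ℕ) = 5 ^ 1 * 1008 by norm_num, Nat.factorization_mul (by norm_num) (by norm_num),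
        Finsupp.add_apply, Nat.Prime.factorization_pow (by norm_num), Finsupp.single_eq_same,
        Nat.factorization_eq_zero_of_not_dvd (by norm_num)]
    rw [this, pow_one]
  obtain ⟨σ, hσ⟩ := exists_prime_orderOf_dvd_card' (G := P) 5 (by rw [hP])
  have hσo : orderOf (σ : Equiv.Perm (Fin 7)) = 5 := (Subgroup.orderOf_coe σ).trans hσ
  have hPz : (P : Subgroup (Equiv.Perm (Fin 7))) = zpowers (σ : Equiv.Perm (Fin 7)) := by
    symm
    apply eq_of_le_of_card_ge
    · rw [zpowers_le]; exact σ.2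
    · rw [Nat.card_zpowers, hσo]; exact hP.le
  -- the centralizer
  obtain ⟨n, hn⟩ := Equiv.Perm.cycleType_prime_order (σ := (σ : Equiv.Perm (Fin 7))) (by rw [hσo]; norm_num)
  have hn0 : n = 0 := by
    have hs := Equiv.Perm.sum_cycleType (σ : Equiv.Perm (Fin 7))
    have hc : (σ : Equiv.Perm (Fin 7)).support.card ≤ 7 := by
      simpa using Finset.card_le_univ (σ : Equiv.Perm (Fin 7)).support
    rw [hn, hσo, Multiset.sum_replicate, smul_eq_mul] at hs
    omega
  have hC : Nat.card (centralizer ({(σ : Equiv.Perm (Fin 7))} : Set (Equiv.Perm (Fin 7)))) = 10 := by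
    rw [Equiv.Perm.nat_card_centralizer, hn, hσo, hn0]
    decide
  have hC' : Nat.card (centralizer ((P : Subgroup (Equiv.Perm (Fin 7))) : Set (Equiv.Perm (Fin 7)))) = 10 := by
    rw [hPz, zpowers_eq_closure, centralizer_closure, hC]
  have hN : Nat.card (normalizer ((P : Subgroup (Equiv.Perm (Fin 7))) : Set (Equiv.Perm (Fin 7)))) ∣ 40 := by
    set f := (P : Subgroup (Equiv.Perm (Fin 7))).normalizerMonoidHom with hf
    have h1 : Nat.card f.ker ∣ 10 := by
      rw [hf, Subgroup.normalizerMonoidHom_ker, ← hC']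
      have h2 := Subgroup.card_subgroup_dvd_card ((centralizer ((P : Subgroup (Equiv.Perm (Fin 7))) :
        Set (Equiv.Perm (Fin 7)))).subgroupOf (normalizer ((P : Subgroup (Equiv.Perm (Fin 7))) :
        Set (Equiv.Perm (Fin 7)))))
      have h3 : Nat.card ((centralizer ((P : Subgroup (Equiv.Perm (Fin 7))) :
        Set (Equiv.Perm (Fin 7)))).subgroupOf (normalizer ((P : Subgroup (Equiv.Perm (Fin 7))) :
        Set (Equiv.Perm (Fin 7))))) ∣ Nat.card (centralizer ((P : Subgroup (Equiv.Perm (Fin 7))) :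
        Set (Equiv.Perm (Fin 7)))) := by
        refine Subgroup.card_dvd_of_injective ((normalizer ((P : Subgroup (Equiv.Perm (Fin 7))) :
          Set (Equiv.Perm (Fin 7)))).subtype.comp (Subgroup.subtype _) |>.codRestrict _ fun x => mem_subgroupOf.1 x.2) ?_
        intro x y h
        have h' : ((x : normalizer ((P : Subgroup (Equiv.Perm (Fin 7))) : Set (Equiv.Perm (Fin 7)))) : Equiv.Perm (Fin 7)) =
            (y : normalizer ((P : Subgroup (Equiv.Perm (Fin 7))) : Set (Equiv.Perm (Fin 7)))) :=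
          congrArg (fun z : centralizer ((P : Subgroup (Equiv.Perm (Fin 7))) : Set (Equiv.Perm (Fin 7))) =>
            (z : Equiv.Perm (Fin 7))) h
        exact Subtype.ext (Subtype.ext h')
      exact h3
    have hcyc : IsCyclic P := isCyclic_of_prime_card hP
    have h4 : Nat.card f.range ∣ 4 := by
      have h5 : Nat.card (MulAut P) = 4 := by
        rw [IsCyclic.card_mulAut, hP, Nat.totient_prime (by norm_num)]
      rw [← h5]
      exact card_subgroup_dvd_card _
    have h6 : Nat.card (normalizer ((P : Subgroup (Equiv.Perm (Fin 7))) : Set (Equiv.Perm (Fin 7)))) =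
        Nat.card f.ker * Nat.card f.range := by
      rw [← Subgroup.index_ker, Subgroup.card_mul_index]
    rw [h6]
    exact Nat.mul_dvd_mul h1 h4
  rw [H482.SylowNumbers.card_eq_index P]
  by_contra hodd
  rw [Nat.not_even_iff_odd] at hodd
  have h7 := (normalizer ((P : Subgroup (Equiv.Perm (Fin 7))) : Set (Equiv.Perm (Fin 7)))).card_mul_index
  rw [hG] at h7
  have h8 : 2 ^ 4 ∣ Nat.card (normalizer ((P : Subgroup (Equiv.Perm (Fin 7))) : Set (Equiv.Perm (Fin 7)))) := by
    have h9 : Nat.Coprime (2 ^ 4) (normalizer ((P : Subgroup (Equiv.Perm (Fin 7))) : Set (Equiv.Perm (Fin 7)))).index :=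
      Nat.Coprime.pow_left _ (Nat.coprime_two_left.2 hodd)
    refine h9.dvd_of_dvd_mul_right ?_
    rw [h7]
    norm_num
  have h10 := h8.trans hN
  revert h10
  norm_num

open Cfsg.Spor (Fi23)
open Cfsg.Agent.H870.IMFi23 Cfsg.Agent.H870.IMLocal Cfsg.Agent.LThreeFi23

/-- `p = 5` : even numbers. -/
theorem fi23_even {x : Fi23} (hx : orderOf x = 5) :
    Even (Nat.card (Sylow 5 (centralizer ({x} : Set Fi23)))) := by
  have hF : Fact (Nat.Prime 5) := ⟨by norm_num⟩
  have hfin : Finite Fi23 := Nat.finite_of_card_ne_zero (by rw [card_G]; norm_num)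
  obtain ⟨f, hf, -⟩ := exists_surj_elt hx
    (H838.Fi23.five_main (Subgroup.zpowers x) (by rw [Nat.card_zpowers, hx]))
  exact even_of_surjective f hf even_perm_seven

/-- `p = 3` : the degree 30888 -/
theorem im_fi23_three : IM (3 ^ 2) Fi23 := by
  classical
  have hfin : Finite Fi23 := Nat.finite_of_card_ne_zero (by rw [card_G]; norm_num)
  obtain ⟨R, hR⟩ := exists_r3
  have hX : Finite (Fi23 ⧸ SporRec.Fi23Index.H) := inferInstance
  have := Fintype.ofFinite (Fi23 ⧸ SporRec.Fi23Index.H)
  obtain ⟨a, b, r, s, χ₁, χ₂, f, g, hab, h1, h2, h3, h4, h5, h6, h7, h8, h9, h10, h11⟩ :=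
    H837.RankFix.frame hR H870.IMFi23.ne_half
  obtain ⟨rfl, rfl, rfl, rfl⟩ := H837.IMCFi23.params h1 h2 h3 h4 h9 h10
  exact ⟨χ₂, by rw [H670.PSing.charDegree_eq_of h8]; norm_num⟩

/-- the primes -/
theorem fi23_cases {S : Type u} [Group S] [Finite S] (h : Spor.IsoFi23 S) {p : ℕ} [hp : Fact p.Prime] (hp2 : p ≠ 2)
    (hd : p ^ 2 ∣ Nat.card S) : p = 3 ∨ p = 5 := by
  obtain ⟨e⟩ := h
  rw [Nat.card_congr e.toEquiv, card_G] at hd
  obtain ⟨hm, hd⟩ := H941.Sq.eq_of_sq hp.out hd ([5, 5, 7, 11, 13, 17, 23] ++ List.replicate 18 2 ++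
    List.replicate 13 3) (by decide) (by decide)
  simp only [List.mem_cons, List.not_mem_nil, or_false, List.mem_append, List.mem_replicate] at hm
  have h7 : p ≠ 7 := by rintro rfl; revert hd; norm_num
  have h11 : p ≠ 11 := by rintro rfl; revert hd; norm_num
  have h13 : p ≠ 13 := by rintro rfl; revert hd; norm_num
  have h17 : p ≠ 17 := by rintro rfl; revert hd; norm_num
  have h23 : p ≠ 23 := by rintro rfl; revert hd; norm_num
  omega

end Cfsg.Agent.H710.PSq
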