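import Cfsg.Agent.H30.IMFi24
import Cfsg.Agent.H710.PSq.Local
import Cfsg.Agent.H941.Sq.Mathieu

/-!
# S4844, row `Fi24'`, `p = 3` (helper710)

An involution with `|C(t)|₃ = 3 ^ 7` inverts an element of order 29, and `|Fi24'|₃ = 3 ^ 16`: a degree divisible by 9.
-/

set_option autoImplicit false
set_option maxRecDepth 10000

namespace Cfsg.Agent.H710.PSq

open Cfsg Cfsg.Spor Cfsg.Agent.H33 Cfsg.Agent.R08 Cfsg.Agent.R08.FiTwentyFour
open Subgroup Cfsg.Agent.CTwoTab.FiTF
open Cfsg.Agent.H713.Spor.FiTF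
open Cfsg.Agent.H30.FourTrans Cfsg.Agent.H30.IMFi24

universe u

/-- `|C(t)|` for an involution inverting an element of order 29 -/
theorem fi24_card_cent_dvd {x t : Spor.Fi24'} (hx : orderOf x = 29) (ht : t * t = 1) (ht1 : t ≠ 1)
    (hinv : t * x * t⁻¹ = x⁻¹) : Nat.card (centralizer ({t} : Set Spor.Fi24')) ∣ 321052999680 := by
  have := finite'
  obtain ⟨g, hg⟩ := conj_z0 hx ht ht1 hinv
  rw [hg, Cfsg.Agent.Blocks.SylowIn.card_centralizer_of_isConj (isConj_iff.2 ⟨g, rfl⟩ : IsConj z0 _)]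
  rw [← Cfsg.Agent.KFacts.FiTF.Order.card]
  let f : ↥(centralizer ({z0} : Set Spor.Fi24')) →* ↥(centralizer ({KFacts.FiTF.Defs.z} : Set Spor.Fi24)) :=
    ((commutator Fi24).subtype.comp (centralizer ({z0} : Set Spor.Fi24')).subtype).codRestrict _ (by
      intro x
      rw [mem_centralizer_singleton_iff]
      exact congrArg Subtype.val (mem_centralizer_singleton_iff.1 x.2))
  refine Subgroup.card_dvd_of_injective f ?_
  intro x y h
  have h1 := (Subtype.mk.injEq _ _ _ _).mp h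
  exact Subtype.ext (Subtype.ext h1)

theorem im_fi24_three : IM (3 ^ 2) Spor.Fi24' := by
  have := finite'
  have : Fact (Nat.Prime 3) := ⟨Nat.prime_three⟩
  obtain ⟨x, t, hx, hC, ht, ht1, hinv⟩ := exists_x
  refine Cfsg.Agent.H672.SC.exists_pow_dvd_of_inverted (m := 1) ht hinv (by rw [hC]; decide) (by rw [hC]; decide)
    (k := 16) (by rw [card_F]; norm_num) ?_
  intro hd
  have h1 : 3 ^ 16 ∣ 3 ^ 1 * 321052999680 ^ 2 :=
    hd.trans (Nat.mul_dvd_mul_left _ (pow_dvd_pow_of_dvd (fi24_card_cent_dvd hx ht ht1 hinv) 2))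
  revert h1
  norm_num

theorem sq_fi24_three {S : Type u} [Group S] [Finite S] (h : Spor.IsoFi24' S) : IM (3 ^ 2) S := by
  obtain ⟨e⟩ := h
  exact IM.of_equiv e im_fi24_three

/-- the primes -/
theorem fi24_cases {S : Type u} [Group S] [Finite S] (h : Spor.IsoFi24' S) {p : ℕ} [hp : Fact p.Prime] (hp2 : p ≠ 2)
    (hd : p ^ 2 ∣ Nat.card S) : p = 3 ∨ p = 5 ∨ p = 7 := by
  obtain ⟨e⟩ := h
  rw [Nat.card_congr e.toEquiv, card_F] at hd
  obtain ⟨hm, hd⟩ := H941.Sq.eq_of_sq hp.out hd ([5, 5, 7, 7, 7, 11, 13, 17, 23, 29] ++ List.replicate 21 2 ++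
    List.replicate 16 3) (by decide) (by decide)
  simp only [List.mem_cons, List.not_mem_nil, or_false, List.mem_append, List.mem_replicate] at hm
  have h11 : p ≠ 11 := by rintro rfl; revert hd; norm_num
  have h13 : p ≠ 13 := by rintro rfl; revert hd; norm_num
  have h17 : p ≠ 17 := by rintro rfl; revert hd; norm_num
  have h23 : p ≠ 23 := by rintro rfl; revert hd; norm_num
  have h29 : p ≠ 29 := by rintro rfl; revert hd; norm_num
  omega

end Cfsg.Agent.H710.PSq
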