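import Cfsg.Agent.H84.IMC.Ru
import Cfsg.Agent.H710.PSq.Local
import Cfsg.Agent.H941.Sq.Mathieu

/-!
# S4844, row `Ru` (helper710)
-/

set_option autoImplicit false
set_option maxRecDepth 100000

namespace Cfsg.Agent.H710.PSq

open Cfsg Cfsg.Agent.H33 Subgroup Cfsg.Agent.H870.IMR3 Cfsg.Agent.H870.IMLocal
open Cfsg.Agent.SporadicB Cfsg.Agent.RuD.Letters Cfsg.Agent.SporRec.TCUpperCert
open Cfsg.Agent.KFacts.Ru Cfsg.Agent.KFacts.Ru.CentEng Cfsg.Agent.CpAutRuFive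
open Cfsg.Agent.H870.IMRu Cfsg.Agent.CpAutRuFive.Cert
open Cfsg.Agent.H625.SylConst Cfsg.Agent.H661.SC

universe u

/-- **`p = 5`** : an element of order 5 with centralizer `5 × A₅`, and `5 ^ 3 ∣ |Ru|`. -/
theorem im_ru_five : IM (5 ^ 2) RuOrder.H := by
  have := finite_H
  have : Fact (Nat.Prime 5) := ⟨by norm_num⟩
  have hr := rel_of_chk chkY
  have hY : wprod ml [5, 5] = (1 : RuOrder.H) := hr _ (by simp)
  have hB : wprod ml [0, 4, 0, 4, 0, 4] = (1 : RuOrder.H) := hr _ (by simp)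
  have hYB : wprod ml [5, 0, 4, 5, 0, 4, 5, 0, 4, 5, 0, 4, 5, 0, 4] = (1 : RuOrder.H) := hr _ (by simp)
  have e1 : wprod ml [5, 5] = (wprod ml [5] : RuOrder.H) ^ 2 := by
    rw [show ([5, 5] : List ℕ) = [5] ++ [5] from rfl, wprod_append, pow_two]
  have e2 : wprod ml [0, 4, 0, 4, 0, 4] = (wprod ml [0, 4] : RuOrder.H) ^ 3 := by
    rw [show ([0, 4, 0, 4, 0, 4] : List ℕ) = [0, 4] ++ ([0, 4] ++ [0, 4]) from rfl, wprod_append, wprod_append]
    simp only [pow_succ, pow_zero, one_mul, mul_assoc]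
  have e3 : wprod ml [5, 0, 4, 5, 0, 4, 5, 0, 4, 5, 0, 4, 5, 0, 4] =
      ((wprod ml [5] : RuOrder.H) * wprod ml [0, 4]) ^ 5 := by
    rw [show ([5, 0, 4, 5, 0, 4, 5, 0, 4, 5, 0, 4, 5, 0, 4] : List ℕ) =
      ([5] ++ [0, 4]) ++ (([5] ++ [0, 4]) ++ (([5] ++ [0, 4]) ++ (([5] ++ [0, 4]) ++ ([5] ++ [0, 4])))) from rfl]
    simp only [wprod_append]
    simp only [pow_succ, pow_zero, one_mul, mul_assoc]
  have hca := eq_of_chkEq chkCa
  have hcb := eq_of_chkEq chkCb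
  rw [wprod_append, wprod_append] at hca hcb
  obtain ⟨h1, h2⟩ := im_cent_five (x := (wprod ml wB : RuOrder.H)) orderB cardB hca hcb (e1.symm.trans hY)
    (e2.symm.trans hB) (e3.symm.trans hYB) ne_one
  refine im_pow_of_cent (wprod ml wB : RuOrder.H) orderB (a := 1) (by rw [pow_one]; exact h1) ?_ (k := 2) ?_
  · by_contra h3
    push Not at h3
    exact h2 ((Nat.Prime.pow_dvd_iff_le_factorization (by norm_num) Nat.card_pos.ne').2 h3)
  · rw [SporadicB.RuOrder.card_H]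
    norm_num

/-- **`p = 3`** -/
theorem im_ru_three : IM (3 ^ 2) RuOrder.H := by
  classical
  have := finite_H
  obtain ⟨R, h⟩ := H690.Spor.Ru.r3
  obtain ⟨χ₁, χ₂, f, g, D, h1, h2, -, h3, h4, h5⟩ := h.frame
  rcases H84.IMC.Ru.nine h3 h4 h5 with h6 | h6
  · exact ⟨χ₁, by rw [H670.PSing.charDegree_eq_of h1]; exact h6⟩
  · exact ⟨χ₂, by rw [H670.PSing.charDegree_eq_of h2]; exact h6⟩

theorem sq_ru {S : Type u} [Group S] [Finite S] (h : Spor.IsoRu S) (_hs : IsSimpleGroup S) {p : ℕ}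
    [hp : Fact p.Prime] (hp2 : p ≠ 2) (hd : p ^ 2 ∣ Nat.card S) : IM (p ^ 2) S := by
  obtain ⟨e⟩ := h
  have e' := e.trans Cfsg.Agent.RuLat.Main.equiv
  rw [Nat.card_congr e'.toEquiv, SporadicB.RuOrder.card_H] at hd
  obtain ⟨hm, hd⟩ := H941.Sq.eq_of_sq hp.out hd ([3, 3, 3, 5, 5, 5, 7, 13, 29] ++ List.replicate 14 2)
    (by decide) (by decide)
  simp only [List.mem_cons, List.not_mem_nil, or_false, List.mem_append, List.mem_replicate] at hm
  refine IM.of_equiv e' ?_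
  have h7 : p ≠ 7 := by rintro rfl; revert hd; norm_num
  have h13 : p ≠ 13 := by rintro rfl; revert hd; norm_num
  have h29 : p ≠ 29 := by rintro rfl; revert hd; norm_num
  rcases eq_or_ne p 3 with rfl | h3
  · exact im_ru_three
  rcases eq_or_ne p 5 with rfl | h5
  · exact im_ru_five
  · exfalso
    omega

end Cfsg.Agent.H710.PSq
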