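import Cfsg.Agent.H710.PSq.Suz
import Cfsg.Agent.H710.PSq.OutSpor
import Cfsg.Agent.H642.SuzFive

/-!
# S4844, row `Suz`
-/

set_option autoImplicit false

namespace Cfsg.Agent.H710.PSq

open Cfsg Subgroup

universe u v

/-- transport of evenness for all elements of order `p` -/
theorem even_all_of_equiv {S : Type u} [Group S] [Finite S] {S' : Type v} [Group S'] [Finite S'] {p : ℕ}
    [hp : Fact p.Prime] (e : S ≃* S')
    (h : ∀ x : S', orderOf x = p → Even (Nat.card (Sylow p (centralizer ({x} : Set S'))))) (x : S) (hx : orderOf x = p) :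
    Even (Nat.card (Sylow p (centralizer ({x} : Set S)))) := by
  have h1 := even_cent_of_equiv e.symm (h (e x) (by rw [MulEquiv.orderOf_eq, hx]))
  rwa [e.symm_apply_apply] at h1

theorem sq_suz {S : Type u} [Group S] [Finite S] (h : Spor.IsoSuz S) (_hs : IsSimpleGroup S) {p : ℕ}
    [hp : Fact p.Prime] (hp2 : p ≠ 2) (hd : p ^ 2 ∣ Nat.card S) : H33.IM (p ^ 2) S ∨ H696.PSq.EvenC p S := by
  rcases suz_cases h hp2 hd with rfl | rfl
  · exact Or.inl (sq_suz_three h)
  · right
    have hspor : IsSporadicGroup S := by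
      unfold IsSporadicGroup
      tauto
    obtain ⟨e⟩ := h
    have hfin : Finite Spor.Suz := Finite.of_equiv S e.toEquiv
    refine evenC_spor hp2 hspor (by rw [Nat.card_congr e.toEquiv]; exact H642.SuzFive.card_fact) ?_
    exact even_all_of_equiv e fun x hx => H642.SuzFive.even_card hx

end Cfsg.Agent.H710.PSq
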