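import Cfsg.Agent.H710.PSq.OutSpor
import Cfsg.Agent.H710.PSq.Rows
import Cfsg.Agent.H710.PSq.Ru
import Cfsg.Agent.H710.PSq.SuzRow
import Cfsg.Agent.H710.PSq.Fi22
import Cfsg.Agent.H710.PSq.Fi23
import Cfsg.Agent.H710.PSq.Fi24
import Cfsg.Agent.H941.Sq.Mathieu
import Cfsg.Agent.H941.Sq.Easy
import Cfsg.Agent.H941.Sq.Rows
import Cfsg.Agent.H941.Sq.RowJTwo
import Cfsg.Agent.H852.PSq.HS
import Cfsg.Agent.H800.Sq.Th
import Cfsg.Agent.H474.PSq.Co3
import Cfsg.Agent.H474.PSq.Co2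
import Cfsg.Agent.H474.PSq.ON
import Cfsg.Agent.H474.PSq.HN
import Cfsg.Agent.H488.S4844.Co1
import Cfsg.Agent.H189.Psq.RowBE
import Cfsg.Agent.H961.Sq.Fi24Seven
import Cfsg.Agent.H849.Sq.M
import Cfsg.Agent.H642.FiTFFive

/-!
# S4844: the sporadic groups (assembly, helper710)
-/

set_option autoImplicit false

namespace Cfsg.Agent.H710.PSq

open Cfsg

universe u

theorem sq_fi23 {S : Type u} [Group S] [Finite S] (h : Spor.IsoFi23 S) (_hs : IsSimpleGroup S) {p : ℕ}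
    [hp : Fact p.Prime] (hp2 : p ≠ 2) (hd : p ^ 2 ∣ Nat.card S) : H33.IM (p ^ 2) S ∨ H696.PSq.EvenC p S := by
  rcases fi23_cases h hp2 hd with rfl | rfl
  · left
    obtain ⟨e⟩ := h
    exact H33.IM.of_equiv e im_fi23_three
  · right
    have hspor : IsSporadicGroup S := by
      unfold IsSporadicGroup
      tauto
    have hc := NotCT.Orders.fi23 h
    obtain ⟨e⟩ := h
    have hfin : Finite Spor.Fi23 := Finite.of_equiv S e.toEquiv
    refine evenC_spor hp2 hspor ?_ (even_all_of_equiv e fun x hx => fi23_even hx)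
    rw [hc, show (4089470473293004800 : ℕ) = 5 ^ 2 * 163578818931720192 by norm_num,
      Nat.factorization_mul (by norm_num) (by norm_num), Finsupp.add_apply, Nat.Prime.factorization_pow hp.out,
      Finsupp.single_eq_same, Nat.factorization_eq_zero_of_not_dvd (by norm_num)]

theorem sq_fi24 {S : Type u} [Group S] [Finite S] (h : Spor.IsoFi24' S) (_hs : IsSimpleGroup S) {p : ℕ}
    [hp : Fact p.Prime] (hp2 : p ≠ 2) (hd : p ^ 2 ∣ Nat.card S) : H33.IM (p ^ 2) S ∨ H696.PSq.EvenC p S := by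
  rcases fi24_cases h hp2 hd with rfl | rfl | rfl
  · exact Or.inl (sq_fi24_three h)
  · right
    have hspor : IsSporadicGroup S := by
      unfold IsSporadicGroup
      tauto
    obtain ⟨e⟩ := h
    have hfin : Finite Spor.Fi24' := Finite.of_equiv S e.toEquiv
    refine evenC_spor hp2 hspor ?_ (even_all_of_equiv e fun x hx => H642.FiTFFive.even_card hx)
    rw [Nat.card_congr e.toEquiv]
    exact H642.FiTFFive.card_fact
  · exact Or.inl (H961.Sq.fi24_seven h)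

/-- The sporadic groups, from the pair `(Fi22, 3)`. -/
theorem sq_spor_of (hFi : ∀ {K : Type u} [Group K] [Finite K], Spor.IsoFi22 K → H33.IM (3 ^ 2) K)
    {S : Type u} [Group S] [Finite S] (h : Cfsg.IsSporadicGroup S) (hs : IsSimpleGroup S) {p : ℕ}
    [hp : Fact p.Prime] (hp2 : p ≠ 2) (hd : p ^ 2 ∣ Nat.card S) : H33.IM (p ^ 2) S ∨ H696.PSq.EvenC p S := by
  rcases h with h | h | h | h | h | h | h | h | h | h | h | h | h | h | h | h | h | h | h | h | h | h | h | h | h | h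
  · exact Or.inl (H941.Sq.sq_m11 h hs hp2 hd)
  · exact Or.inl (H941.Sq.sq_m12 h hs hp2 hd)
  · exact Or.inl (H941.Sq.sq_m22 h hs hp2 hd)
  · exact Or.inl (H941.Sq.sq_m23 h hs hp2 hd)
  · exact Or.inl (H941.Sq.sq_m24 h hs hp2 hd)
  · exact Or.inl (row_j1 h hs hp2 hd)
  · exact Or.inl (H941.Sq.sq_j2 h hs hp2 hd)
  · exact Or.inl (H941.Sq.sq_j3 h hs hp2 hd)
  · exact Or.inl (H941.Sq.sq_j4 h hs hp2 hd)
  · exact Or.inl (H488.PSq.sq_co1 h hs hp2 hd)
  · exact Or.inl (H474.PSq.sq_co2 h hs hp2 hd)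
  · exact Or.inl (H474.PSq.sq_co3 h hs hp2 hd)
  · exact Or.inl (H941.Sq.sq_mcl h hs hp2 hd)
  · exact Or.inl (H941.Sq.sq_hs_of h (H852.PSq.HS.sq_hs_three h) hp2 hd)
  · exact sq_suz h hs hp2 hd
  · exact Or.inl (H941.Sq.sq_he h hs hp2 hd)
  · exact Or.inl (sq_ru h hs hp2 hd)
  · exact Or.inl (H474.PSq.sq_on h hs hp2 hd)
  · exact Or.inl (H941.Sq.sq_ly h hs hp2 hd)
  · rcases fi22_cases h hp2 hd with rfl | rfl
    · exact Or.inl (hFi h)
    · exact Or.inl (sq_fi22_five h)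
  · exact sq_fi23 h hs hp2 hd
  · exact sq_fi24 h hs hp2 hd
  · exact Or.inl (H474.PSq.sq_hn h hs hp2 hd)
  · exact Or.inl (H800.Sq.Th.sq_th h hs hp2 hd)
  · by_cases hp7 : p = 7
    · right
      subst hp7
      exact H189.Psq.evenC_b h
    · exact Or.inl (H189.Psq.sq_b h hp2 hp7 hd)
  · exact Or.inl (H849.Sq.sq_m h hs hp2 hd)

end Cfsg.Agent.H710.PSq
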