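import Cfsg.Agent.H84.IMC.Suz
import Cfsg.Agent.H710.PSq.Local
import Cfsg.Agent.H941.Sq.Mathieu

/-!
# S4844, row `Suz`, `p = 3` (helper710)

`D = E` of order 9, `C(E) / E = A₆`: a degree divisible by `3 ^ 5`.
-/

set_option autoImplicit false

namespace Cfsg.Agent.H710.PSq

open Cfsg Subgroup Cfsg.Spor Cfsg.Agent.H33
open Cfsg.Agent.CpAutSuz.ThreeC
open Cfsg.Agent.PreUniq.Spor.SuzP
open Cfsg.Agent.H625.SylConst Cfsg.Agent.H661.SC Cfsg.Agent.Characters.Core Cfsg.Agent.Blocks.Basic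
open Cfsg.Agent.H713 Cfsg.Agent.H713.Count Cfsg.Agent.H665.NoPQ Cfsg.Agent.H492.IMTools

universe u v

/-- **Weights**, with the exponent. -/
theorem im_pow_of_weight {G : Type u} [Group G] {p : ℕ} [hp : Fact p.Prime] [Finite G] (D : Subgroup G)
    (hD : IsPGroup p D) {k : ℕ} (hidx : p ^ k ∣ D.index) {H : Type v} [Group H]
    (f : Subgroup.centralizer (D : Set G) →* H) (hf : Function.Surjective f)
    (hH : (Nat.card (Subgroup.centralizer (D : Set G))).factorization p ≤ (Nat.card H).factorization p +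
      (Nat.card ↥(D ⊓ Subgroup.centralizer (D : Set G))).factorization p) (h : HasDZ p H)
    (hst : ∀ g : G, g ∈ Subgroup.normalizer (D : Set G) → (∃ k : ℕ, orderOf g = p ^ k) →
      g ∈ D ⊔ Subgroup.centralizer (D : Set G)) : IM (p ^ k) G := by
  obtain ⟨χ, hχ⟩ := h
  refine im_pow_of_local D hD hidx ⟨(χ : H → ℂ) ∘ f, isIrr_comp f hf χ.2⟩ ?_ hst
  have h2 : charDegree ((χ : H → ℂ) ∘ f) = charDegree (χ : H → ℂ) := by
    unfold charDegree
    rw [Function.comp_apply, map_one]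
  show _ ≤ (charDegree ((χ : H → ℂ) ∘ f)).factorization p + _
  rw [h2, hχ]
  exact hH

theorem im_suz_three : IM (3 ^ 5) Suz := by
  have := finSuz
  have hF : Fact (Nat.Prime 3) := ⟨Nat.prime_three⟩
  have hn : (E.subgroupOf X).Normal := inferInstance
  have hs := simple_X
  have hidx : 3 ^ 5 ∣ E.index := by
    have h1 := E.card_mul_index
    rw [card_E, H84.IMC.Suz.card_suz] at h1
    have h2 : E.index = 49816166400 := by omega
    rw [h2]; norm_num
  refine im_pow_of_weight E isPGroup_E hidx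
    (show centralizer (E : Set Suz) →* X ⧸ E.subgroupOf X from QuotientGroup.mk' (E.subgroupOf X))
    (QuotientGroup.mk'_surjective (E.subgroupOf X)) ?_
    (H999.ONIMThree.hasDZ_360 card_quot) (fun g hg hk => mem_sup_right (H84.IMC.Suz.mem_of_norm hg hk))
  have hle : E ≤ X := E_le_X
  change (Nat.card X).factorization 3 ≤ (Nat.card (X ⧸ E.subgroupOf X)).factorization 3 +
    (Nat.card ↥(E ⊓ X)).factorization 3
  rw [inf_eq_left.2 hle, card_X, card_quot, card_E,
    H84.IMC.Suz.fac (n := 4) (m := 40) Nat.prime_three (by norm_num) (by norm_num),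
    H84.IMC.Suz.fac (n := 2) (m := 40) Nat.prime_three (by norm_num) (by norm_num),
    H84.IMC.Suz.fac (n := 2) (m := 1) Nat.prime_three (by norm_num) (by norm_num)]

theorem sq_suz_three {S : Type u} [Group S] [Finite S] (h : Spor.IsoSuz S) : IM (3 ^ 2) S := by
  obtain ⟨e⟩ := h
  obtain ⟨χ, hχ⟩ := im_suz_three
  exact IM.of_equiv e ⟨χ, dvd_trans (by norm_num) hχ⟩

/-- the primes -/
theorem suz_cases {S : Type u} [Group S] [Finite S] (h : Spor.IsoSuz S) {p : ℕ} [hp : Fact p.Prime] (hp2 : p ≠ 2)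
    (hd : p ^ 2 ∣ Nat.card S) : p = 3 ∨ p = 5 := by
  obtain ⟨e⟩ := h
  rw [Nat.card_congr e.toEquiv, H84.IMC.Suz.card_suz] at hd
  obtain ⟨hm, hd⟩ := H941.Sq.eq_of_sq hp.out hd ([3, 3, 3, 3, 3, 3, 3, 5, 5, 7, 11, 13] ++ List.replicate 13 2)
    (by decide) (by decide)
  simp only [List.mem_cons, List.not_mem_nil, or_false, List.mem_append, List.mem_replicate] at hm
  have h7 : p ≠ 7 := by rintro rfl; revert hd; norm_num
  have h11 : p ≠ 11 := by rintro rfl; revert hd; norm_num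
  have h13 : p ≠ 13 := by rintro rfl; revert hd; norm_num
  omega

end Cfsg.Agent.H710.PSq
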